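import Cfsg.Agent.Lib.Known.ChevFixedPoints

/-!
# The only chamber fixed by elements with non-zero fundamental coordinates

If for every fundamental root some positive unipotent element with non-zero coordinate there is
carried into the Borel subgroup by `g`, then `g` lies in the Borel subgroup.
-/

set_option autoImplicit false

namespace CfsgLib.Chev.E6Three

open Cfsg.Lie CfsgLib.Chev.FixedPoints

universe v

variable {D : ChevalleyDatum} {co : ℕ → ℕ → ℤ} (hF : Facts D co) (hC : CommF.{v} D)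
  {F : Type v} [Field F]
include hF hC

theorem mem_borel_of_coord {g : GL D.Idx F} (hg : g ∈ D.group F)
    (hz : ∀ i : Fin D.rank, ∃ z ∈ rootClosure D F (D.nroots / 2 ≤ ·),
      coord D i (hF.neg_lt (hF.simple_lt' i.isLt)) z ≠ 0 ∧ g⁻¹ * z * g ∈ D.borelSubgroup F) :
    g ∈ D.borelSubgroup F := by
  obtain ⟨b, hb, n, hn, σ, hσ, u, hu, rfl⟩ := hF.bruhat_exists hC hg
  obtain ⟨u1, hu1, h, hh, rfl⟩ := hF.mem_borel_iff.1 hb
  obtain ⟨l, k, hk, hlk⟩ := hF.exists_nW hn
  have hσl : σ = sW D l := by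
    have := hF.permAct_mul (hF.permAct_nW (F := F) l) (hF.permAct_diagonal hk)
    rw [mul_one, ← hlk] at this
    exact hF.permAct_unique hσ this
  have huB : u ∈ D.borelSubgroup F :=
    hF.pos_le_borel (rootClosure_mono (fun _ _ h => h.2.1) hu)
  by_cases he : σ = 1
  · exact Subgroup.mul_mem _ (Subgroup.mul_mem _ hb
      (hF.diagonal_le_borel (hF.mem_diagonal_of_permAct hn (he ▸ hσ)))) huB
  exfalso
  obtain ⟨i, hi⟩ := exists_simple_neg hF l.reverse (by
    rw [hF.sW_reverse, ← hσl]; simpa using he)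
  rw [hF.sW_reverse, ← hσl] at hi
  obtain ⟨z, hz, hne, hzB⟩ := hz i
  have hnN : h * n ∈ D.monomialSubgroup F :=
    Subgroup.mul_mem _ (Subgroup.mem_sup_left hh) hn
  have hσ' : PermAct (h * n) σ := by
    simpa using hF.permAct_mul (hF.permAct_diagonal hh) hσ
  set m := (h * n)⁻¹ with hm
  have hmσ : PermAct m σ⁻¹ := hF.permAct_inv hnN hσ'
  have hu1' := Subgroup.inv_mem _ hu1
  set y := u1⁻¹ * z * u1 with hy
  have hyU : y ∈ rootClosure D F (D.nroots / 2 ≤ ·) :=
    Subgroup.mul_mem _ (Subgroup.mul_mem _ hu1' hz) hu1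
  have hyc : coord D i (hF.neg_lt (hF.simple_lt' i.isLt)) y =
      coord D i (hF.neg_lt (hF.simple_lt' i.isLt)) z := by
    have h1 : coord D i (hF.neg_lt (hF.simple_lt' i.isLt)) (1 : GL D.Idx F) = 0 := by simp [coord]
    have h2 := coord_mul hF i hu1' hu1
    rw [inv_mul_cancel, h1] at h2
    rw [hy, coord_mul hF i (Subgroup.mul_mem _ hu1' hz) hu1, coord_mul hF i hu1' hz,
      add_right_comm, ← h2, zero_add]
  have hny : m * y * m⁻¹ ∈ D.borelSubgroup F := by
    have e : m * y * m⁻¹ = u * ((u1 * h * n * u)⁻¹ * z * (u1 * h * n * u)) * u⁻¹ := by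
      rw [hm, hy]; group
    rw [e]
    exact Subgroup.mul_mem _ (Subgroup.mul_mem _ huB hzB) (Subgroup.inv_mem _ huB)
  obtain ⟨a, ha, c, hcc, e⟩ := hF.flip_decomp hC (σ := σ⁻¹) (m := D.nroots / 2)
    (k := D.nroots / 2) (by have := hF.nroots_even; omega) le_rfl hyU
  have hma : m * a * m⁻¹ ∈ D.borelSubgroup F :=
    hF.pos_le_borel (hF.conj_rootClosure hmσ (Q := (D.nroots / 2 ≤ ·)) (fun s hs => hs.2.2) ha)
  have hmc : m * c * m⁻¹ ∈ D.borelSubgroup F ⊓ D.negUnipotent F := by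
    refine ⟨?_, ?_⟩
    · rw [show m * c * m⁻¹ = (m * a * m⁻¹)⁻¹ * (m * (a * c) * m⁻¹) by group, ← e]
      exact Subgroup.mul_mem _ (Subgroup.inv_mem _ hma) hny
    · rw [hF.negUnipotent_eq]
      exact hF.conj_rootClosure hmσ (fun s hs => hs.2.2) hcc
  rw [hF.borel_inf_neg, Subgroup.mem_bot, conj_eq_one_iff] at hmc
  rw [hmc, mul_one] at e
  refine hne ?_
  rw [← hyc, e]
  refine coord_eq_zero hF i (fun r hr => ⟨hr.2.1, fun e' => ?_⟩) ha
  obtain ⟨hr', -, hpos⟩ := hr
  subst e'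
  exact absurd hi (not_lt.2 hpos)

end CfsgLib.Chev.E6Three
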