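import Cfsg.Agent.Lib.Known.E6Three.Rational
import Cfsg.Agent.Lib.BNSteinberg.Split

/-!
# Three classes of subgroups of type F₄ in ²E₆(2)

No element of the inner-diagonal group outside the twisted group normalises the subgroup of type
F₄ over the prime field, so its three diagonal conjugates are not conjugate.
-/

set_option autoImplicit false
set_option maxRecDepth 20000
set_option Elab.async false

namespace CfsgLib.Chev.E6Three

open Cfsg.Lie TwE6 CfsgLib.Chev.FixedPoints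

universe v

/-- The coordinate at the fundamental root `i`. -/
noncomputable abbrev cd {K : Type v} [Field K] (i : Fin chevE6.rank) (g : GL chevE6.Idx K) : K :=
  coord chevE6 i (DataE6.facts.neg_lt (DataE6.facts.simple_lt' i.isLt)) g

/-- The positive unipotent subgroup. -/
noncomputable abbrev pos (K : Type v) [Field K] : Subgroup (GL chevE6.Idx K) :=
  rootClosure chevE6 K (chevE6.nroots / 2 ≤ ·)

theorem gen_tables : ∀ i : Fin chevE6.rank,
    chevE6.simple i.val = e6p2 ∨ chevE6.simple i.val = e6p4 ∨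
    chevE6.simple i.val = e6p3 ∨ chevE6.simple i.val = e6p5 ∨
    chevE6.simple i.val = e6p1 ∨ chevE6.simple i.val = e6p6 := by
  decide +kernel

theorem pos_tables : ∀ r ∈ [e6p1, e6p2, e6p3, e6p4, e6p5, e6p6],
    chevE6.nroots / 2 ≤ r ∧ r < chevE6.nroots := by
  decide +kernel

variable {K : Type v} [Field K] [Fintype K] [CharP K 2]

omit [Fintype K] in
/-- For each fundamental root a generator with coordinate one, and its torus conjugates. -/
theorem exists_gen (i : Fin chevE6.rank) : ∃ z ∈ sub (K := K), z ∈ pos K ∧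
    ∀ (m : GL chevE6.Idx K) (χ : ℕ → Kˣ),
      (∀ r ∈ [e6p1, e6p2, e6p3, e6p4, e6p5, e6p6], ∀ t : K,
        m * xU chevE6 r t * m⁻¹ = xU chevE6 r ((χ r : K) * t)) →
      m * z * m⁻¹ ∈ pos K ∧ cd i (m * z * m⁻¹) = (χ (chevE6.simple i.val) : K) := by
  have hF := DataE6.facts
  have hU : ∀ r ∈ [e6p1, e6p2, e6p3, e6p4, e6p5, e6p6], ∀ t : K, xU chevE6 r t ∈ pos K :=
    fun r hr t => xU_mem_rootClosure (pos_tables r hr).2 (pos_tables r hr).1 t
  have single : ∀ r ∈ [e6p2, e6p4], chevE6.simple i.val = r → ∃ z ∈ sub (K := K), z ∈ pos K ∧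
      ∀ (m : GL chevE6.Idx K) (χ : ℕ → Kˣ),
        (∀ r ∈ [e6p1, e6p2, e6p3, e6p4, e6p5, e6p6], ∀ t : K,
          m * xU chevE6 r t * m⁻¹ = xU chevE6 r ((χ r : K) * t)) →
        m * z * m⁻¹ ∈ pos K ∧ cd i (m * z * m⁻¹) = (χ (chevE6.simple i.val) : K) := by
    intro r hr hi
    have hr1 : r ∈ [e6p2, e6m2, e6p4, e6m4] := by
      simp only [List.mem_cons, List.not_mem_nil, or_false] at hr ⊢; tauto
    have hr6 : r ∈ [e6p1, e6p2, e6p3, e6p4, e6p5, e6p6] := by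
      simp only [List.mem_cons, List.not_mem_nil, or_false] at hr ⊢; tauto
    refine ⟨_, one_mem_sub hr1, hU r hr6 1, fun m χ hm => ?_⟩
    rw [hm r hr6, mul_one, cd, coord_xU hF i (pos_tables r hr6).2, if_pos hi.symm, hi]
    exact ⟨hU r hr6 _, rfl⟩
  have pair : ∀ rs ∈ [(e6p3, e6p5), (e6p1, e6p6)],
      chevE6.simple i.val = rs.1 ∨ chevE6.simple i.val = rs.2 →
      ∃ z ∈ sub (K := K), z ∈ pos K ∧ ∀ (m : GL chevE6.Idx K) (χ : ℕ → Kˣ),
        (∀ r ∈ [e6p1, e6p2, e6p3, e6p4, e6p5, e6p6], ∀ t : K,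
          m * xU chevE6 r t * m⁻¹ = xU chevE6 r ((χ r : K) * t)) →
        m * z * m⁻¹ ∈ pos K ∧ cd i (m * z * m⁻¹) = (χ (chevE6.simple i.val) : K) := by
    intro rs hrs hi
    have hrs1 : rs ∈ [(e6p1, e6p6), (e6m1, e6m6), (e6p3, e6p5), (e6m3, e6m5)] := by
      simp only [List.mem_cons, List.not_mem_nil, or_false] at hrs ⊢; tauto
    have h6 : rs.1 ∈ [e6p1, e6p2, e6p3, e6p4, e6p5, e6p6] ∧
        rs.2 ∈ [e6p1, e6p2, e6p3, e6p4, e6p5, e6p6] ∧ rs.1 ≠ rs.2 := by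
      simp only [List.mem_cons, List.not_mem_nil, or_false] at hrs
      rcases hrs with rfl | rfl <;> decide
    refine ⟨_, two_mem_sub hrs1, Subgroup.mul_mem _ (hU _ h6.1 1) (hU _ h6.2.1 1),
      fun m χ hm => ?_⟩
    rw [show m * (xU chevE6 rs.1 (1 : K) * xU chevE6 rs.2 (1 : K)) * m⁻¹ =
        m * xU chevE6 rs.1 (1 : K) * m⁻¹ * (m * xU chevE6 rs.2 (1 : K) * m⁻¹) by group,
      hm _ h6.1, hm _ h6.2.1, mul_one, mul_one, cd, coord_mul hF i (hU _ h6.1 _) (hU _ h6.2.1 _),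
      coord_xU hF i (pos_tables _ h6.1).2, coord_xU hF i (pos_tables _ h6.2.1).2]
    refine ⟨Subgroup.mul_mem _ (hU _ h6.1 _) (hU _ h6.2.1 _), ?_⟩
    rcases hi with hi | hi
    · rw [hi, if_pos rfl, if_neg (Ne.symm h6.2.2), add_zero]
    · rw [hi, if_neg h6.2.2, if_pos rfl, zero_add]
  rcases gen_tables i with h | h | h | h | h | h
  · exact single _ (by simp) h
  · exact single _ (by simp) h
  · exact pair (e6p3, e6p5) (by simp) (Or.inl h)
  · exact pair (e6p3, e6p5) (by simp) (Or.inr h)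
  · exact pair (e6p1, e6p6) (by simp) (Or.inl h)
  · exact pair (e6p1, e6p6) (by simp) (Or.inr h)

variable (C : Ctx K 2)
include C

omit [CharP K 2] in
theorem twisted_le : twistedE6 K 2 ≤ chevE6.group K := fun _ hg => Img.mem (C.sys.le_fix hg)

/-- A 2-group of the subgroup containing the positive part is the positive part. -/
theorem exists_sylow :
    ∃ Q : Sylow 2 ↥(sub (K := K)), (Q : Subgroup ↥(sub (K := K))) = (pos K).subgroupOf sub := by
  have : Fact (Nat.Prime 2) := ⟨Nat.prime_two⟩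
  have hF := DataE6.facts
  obtain ⟨-, hC⟩ := good_E6.{v}
  have hs := C.sys.split 2
  have hle := sub_le C
  have hP : IsPGroup 2 ↥((pos K).subgroupOf (sub (K := K))) :=
    hs.pgroup.comap_of_injective (Subgroup.inclusion hle) (Subgroup.inclusion_injective hle)
  obtain ⟨Q, hQ⟩ := hP.exists_le_sylow
  refine ⟨Q, le_antisymm (fun q hq => ?_) hQ⟩
  obtain ⟨R, hR⟩ := (Q.2.map (Subgroup.inclusion hle)).exists_le_sylow
  obtain ⟨R0, hR0⟩ := hs.exists_sylow
  obtain ⟨a, ha⟩ := MulAction.exists_smul_eq (↥(twistedE6 K 2)) R0 R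
  have conjU : ∀ q ∈ (Q : Subgroup ↥(sub (K := K))),
      (a : GL chevE6.Idx K)⁻¹ * (q : GL chevE6.Idx K) * a ∈ pos K := by
    intro q hq
    have h1 : Subgroup.inclusion hle q ∈ ((a • R0 : Sylow 2 _) : Subgroup ↥(twistedE6 K 2)) :=
      ha ▸ hR ⟨q, hq, rfl⟩
    rw [Sylow.coe_subgroup_smul, Subgroup.mem_pointwise_smul_iff_inv_smul_mem, hR0,
      TwSys.mem_uSub] at h1
    simpa [MulAut.smul_def, MulAut.inv_apply, MulAut.conj_symm_apply] using h1
  have haB : (a : GL chevE6.Idx K) ∈ chevE6.borelSubgroup K := by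
    refine mem_borel_of_coord hF hC (twisted_le C a.2) fun i => ?_
    obtain ⟨z, hzH, hzU, hz⟩ := exists_gen (K := K) i
    obtain ⟨-, hc⟩ := hz 1 1 fun r _ t => by simp
    rw [one_mul, inv_one, mul_one] at hc
    refine ⟨z, hzU, ?_, hF.pos_le_borel (conjU ⟨z, hzH⟩ (hQ (Subgroup.mem_subgroupOf.2 hzU)))⟩
    rw [show coord chevE6 i _ z = cd i z from rfl, hc]
    simp
  have := C.sys.borel_normalizes' haB (conjU q hq)
  rw [show (a : GL chevE6.Idx K) * ((a : GL chevE6.Idx K)⁻¹ * (q : GL chevE6.Idx K) * a) *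
    (a : GL chevE6.Idx K)⁻¹ = (q : GL chevE6.Idx K) by group] at this
  exact Subgroup.mem_subgroupOf.2 this

omit [CharP K 2] in
theorem eq_one_of_fixed {c : K} (hc : c ≠ 0) (hf : C.f c = c) : c = 1 := by
  rw [C.hf, sq] at hf
  exact mul_left_cancel₀ hc (hf.trans (mul_one c).symm)

omit [CharP K 2] in
theorem wt_mul (x y : TorT K 2) (r : ℕ) (hr : r ∈ [e6p1, e6p2, e6p3, e6p4, e6p5, e6p6]) :
    C.wt (x * y) r = C.wt x r * C.wt y r := by
  obtain ⟨a1, a2, a3, a4, a5, a6⟩ := C.wt_simple (x * y)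
  obtain ⟨b1, b2, b3, b4, b5, b6⟩ := C.wt_simple x
  obtain ⟨c1, c2, c3, c4, c5, c6⟩ := C.wt_simple y
  simp only [List.mem_cons, List.not_mem_nil, or_false] at hr
  rcases hr with rfl | rfl | rfl | rfl | rfl | rfl
  · rw [a1, b1, c1]; rfl
  · rw [a2, b2, c2]; rfl
  · rw [a3, b3, c3]; rfl
  · rw [a4, b4, c4]; rfl
  · rw [a5, b5, c5, ← map_mul]; rfl
  · rw [a6, b6, c6, ← map_mul]; rfl

/-- An inner-diagonal element normalising the subgroup is inner. -/
theorem mem_range_of_normalizes {g : GL chevE6.Idx K} (hg : g ∈ twistedE6 K 2) (e : TorT K 2)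
    (hn : ∀ h ∈ sub (K := K), g * C.dW e * h * (g * C.dW e)⁻¹ ∈ sub (K := K)) :
    e ∈ C.chiT.range := by
  have : Fact (Nat.Prime 2) := ⟨Nat.prime_two⟩
  have hF := DataE6.facts
  obtain ⟨-, hC⟩ := good_E6.{v}
  obtain ⟨Q, hQ⟩ := exists_sylow C
  set z := g * C.dW e with hz
  let γ : ↥(sub (K := K)) →* ↥(sub (K := K)) :=
    MonoidHom.mk' (fun h => ⟨z * (h : GL chevE6.Idx K) * z⁻¹, hn h h.2⟩)
      fun a b => Subtype.ext (by simp only [Subgroup.coe_mul]; group)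
  obtain ⟨R, hR⟩ := (Q.2.map γ).exists_le_sylow
  obtain ⟨h, hh⟩ := MulAction.exists_smul_eq (↥(sub (K := K))) Q R
  set g2 := (h : GL chevE6.Idx K)⁻¹ * g with hg2
  have hg2G : g2 ∈ twistedE6 K 2 :=
    Subgroup.mul_mem _ (Subgroup.inv_mem _ (sub_le C h.2)) hg
  have key : ∀ p ∈ sub (K := K), p ∈ pos K →
      g2 * (C.dW e * p * (C.dW e)⁻¹) * g2⁻¹ ∈ sub (K := K) ∧
      g2 * (C.dW e * p * (C.dW e)⁻¹) * g2⁻¹ ∈ pos K := by
    intro p hp hpU
    have hpQ : (⟨p, hp⟩ : ↥(sub (K := K))) ∈ (Q : Subgroup _) :=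
      hQ ▸ Subgroup.mem_subgroupOf.2 hpU
    have h1 : γ ⟨p, hp⟩ ∈ ((h • Q : Sylow 2 _) : Subgroup ↥(sub (K := K))) :=
      hh ▸ hR ⟨_, hpQ, rfl⟩
    rw [Sylow.coe_subgroup_smul, Subgroup.mem_pointwise_smul_iff_inv_smul_mem, hQ,
      Subgroup.mem_subgroupOf] at h1
    have e1 : g2 * (C.dW e * p * (C.dW e)⁻¹) * g2⁻¹ =
        (h : GL chevE6.Idx K)⁻¹ * (z * p * z⁻¹) * h := by
      rw [hg2, hz]; group
    refine ⟨?_, ?_⟩
    · rw [e1]
      exact Subgroup.mul_mem _ (Subgroup.mul_mem _ (Subgroup.inv_mem _ h.2) (hn p hp)) h.2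
    · rw [e1]
      simpa [γ, MulAut.smul_def, MulAut.inv_apply, MulAut.conj_symm_apply] using h1
  have hdW : ∀ r ∈ [e6p1, e6p2, e6p3, e6p4, e6p5, e6p6], ∀ t : K,
      C.dW e * xU chevE6 r t * (C.dW e)⁻¹ = xU chevE6 r ((C.wt e r : K) * t) :=
    fun r hr t => C.dW_conj e (pos_tables r hr).2 t
  have hgB : g2⁻¹ ∈ chevE6.borelSubgroup K := by
    refine mem_borel_of_coord hF hC (Subgroup.inv_mem _ (twisted_le C hg2G)) fun i => ?_
    obtain ⟨p, hp, hpU, hpm⟩ := exists_gen (K := K) i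
    obtain ⟨h1, h2⟩ := hpm _ _ hdW
    refine ⟨_, h1, ?_, ?_⟩
    · rw [show coord chevE6 i _ (C.dW e * p * (C.dW e)⁻¹) = cd i _ from rfl, h2]
      exact Units.ne_zero _
    · rw [inv_inv]
      exact hF.pos_le_borel (key p hp hpU).2
  obtain ⟨u, -, hu, t, htG, ht, e2⟩ :=
    C.sys.mem_B hg2G (by simpa using Subgroup.inv_mem _ hgB)
  obtain ⟨p, hp⟩ : t ∈ C.par.range := C.diag_eq ▸ ⟨ht, htG⟩
  have ht6 : ∀ r ∈ [e6p1, e6p2, e6p3, e6p4, e6p5, e6p6], ∀ s : K,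
      t * C.dW e * xU chevE6 r s * (t * C.dW e)⁻¹ =
        xU chevE6 r ((C.wt (C.chiT p * e) r : K) * s) := by
    intro r hr s
    rw [show t * C.dW e * xU chevE6 r s * (t * C.dW e)⁻¹ =
        t * (C.dW e * xU chevE6 r s * (C.dW e)⁻¹) * t⁻¹ by group, hdW r hr, ← hp,
      show C.par p = hT chevE6 (six p.1.1 p.2.1 p.1.2 p.2.2 (C.fu p.1.2) (C.fu p.1.1)) from rfl,
      hF.hT_conj_xU _ (pos_tables r hr).2, C.par_conj p r hr, wt_mul C _ _ r hr, Units.val_mul,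
      mul_assoc]
  have hone : ∀ i : Fin chevE6.rank, C.wt (C.chiT p * e) (chevE6.simple i.val) = 1 := by
    intro i
    obtain ⟨x, hx, hxU, hxm⟩ := exists_gen (K := K) i
    obtain ⟨h1, h2⟩ := hxm _ _ ht6
    obtain ⟨k1, -⟩ := key x hx hxU
    have e3 : g2 * (C.dW e * x * (C.dW e)⁻¹) * g2⁻¹ =
        u * (t * C.dW e * x * (t * C.dW e)⁻¹) * u⁻¹ := by
      rw [e2]; group
    rw [e3] at k1
    have hcd : cd i (u * (t * C.dW e * x * (t * C.dW e)⁻¹) * u⁻¹) =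
        (C.wt (C.chiT p * e) (chevE6.simple i.val) : K) := by
      have hu' := Subgroup.inv_mem _ hu
      have h0 := coord_mul hF i hu hu'
      rw [mul_inv_cancel] at h0
      have h00 : cd i (1 : GL chevE6.Idx K) = 0 := by simp [cd, coord]
      rw [cd, coord_mul hF i (Subgroup.mul_mem _ hu h1) hu', coord_mul hF i hu h1,
        add_right_comm, ← h0, ← h2]
      show cd i 1 + _ = _
      rw [h00, zero_add]
    refine Units.ext ?_
    rw [Units.val_one, ← hcd]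
    refine eq_one_of_fixed C ?_ (sub_rat C k1 _ _)
    rw [hcd]
    exact Units.ne_zero _
  obtain ⟨s0, s1, s2, s3, -⟩ := torus_tables
  obtain ⟨w1, w2, w3, w4, -, -⟩ := C.wt_simple (C.chiT p * e)
  have k0 := hone ⟨0, by decide⟩
  have k1 := hone ⟨1, by decide⟩
  have k2 := hone ⟨2, by decide⟩
  have k3 := hone ⟨3, by decide⟩
  simp only [s0, s1, s2, s3, w1, w2, w3, w4] at k0 k1 k2 k3
  have h1 : C.chiT p * e = 1 :=
    Prod.ext (Prod.ext k0 k2) (Prod.ext (Subtype.ext k1) (Subtype.ext k3))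
  exact ⟨p⁻¹, by rw [map_inv, inv_eq_of_mul_eq_one_right h1]⟩

/-- Three pairwise non-conjugate subgroups of type F₄. -/
theorem three :
    ∃ H : Fin 3 → Subgroup ↥(twistedE6 K 2),
      (∀ i, Nonempty ((H i) ≃* chevF4.group (ZMod 2))) ∧
      (∀ i j, i ≠ j → ∀ g : ↥(twistedE6 K 2),
        (H i).map (MulAut.conj g).toMonoidHom ≠ H j) := by
  have hle := sub_le C
  have hidx : C.chiT.range.index = 3 := C.index_chiT
  obtain ⟨x, hx⟩ : ∃ x, x ∉ C.chiT.range := by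
    by_contra h
    push Not at h
    rw [(Subgroup.eq_top_iff' _).2 h, Subgroup.index_top] at hidx
    omega
  have hx3 : x ^ 3 ∈ C.chiT.range := hidx ▸ Subgroup.pow_index_mem _ x
  let H : Fin 3 → Subgroup ↥(twistedE6 K 2) := fun i =>
    ((sub (K := K)).subgroupOf (twistedE6 K 2)).map (C.dA (x ^ (i : ℕ))).toMonoidHom
  refine ⟨H, fun i => ?_, fun i j hij g hgij => ?_⟩
  · obtain ⟨e⟩ := sub_equiv (K := K)
    exact ⟨(((sub (K := K)).subgroupOf (twistedE6 K 2)).equivMapOfInjective _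
      (C.dA _).injective).symm.trans ((Subgroup.subgroupOfEquivOfLe hle).trans e)⟩
  · set a := x ^ (i : ℕ) with ha
    set b := x ^ (j : ℕ) with hb
    have hmem : (C.dW b)⁻¹ * (g : GL chevE6.Idx K) * C.dW b ∈ twistedE6 K 2 := by
      have := C.dW_mem b⁻¹ _ g.2
      rwa [map_inv, inv_inv] at this
    have he := mem_range_of_normalizes C hmem (b⁻¹ * a) fun h hh => by
      have h1 : MulAut.conj g (C.dA a ⟨h, hle hh⟩) ∈ H j :=
        hgij ▸ ⟨_, ⟨_, Subgroup.mem_subgroupOf.2 hh, rfl⟩, rfl⟩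
      obtain ⟨k, hk, hk'⟩ := h1
      have e1 : C.dW b * (k : GL chevE6.Idx K) * (C.dW b)⁻¹ =
          (g : GL chevE6.Idx K) * (C.dW a * h * (C.dW a)⁻¹) * (g : GL chevE6.Idx K)⁻¹ :=
        congrArg Subtype.val hk'
      rw [map_mul, map_inv]
      convert Subgroup.mem_subgroupOf.1 hk using 1
      rw [show (k : GL chevE6.Idx K) =
        (C.dW b)⁻¹ * (C.dW b * (k : GL chevE6.Idx K) * (C.dW b)⁻¹) * C.dW b by group, e1]
      group
    apply hx
    rw [ha, hb] at he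
    have hne : (i : ℕ) ≠ j := fun e => hij (Fin.ext e)
    have hi := i.isLt
    have hj := j.isLt
    have h2 : x ^ 2 ∈ C.chiT.range → x ∈ C.chiT.range := fun h => by
      have := Subgroup.mul_mem _ hx3 (Subgroup.inv_mem _ h)
      rwa [pow_succ, mul_assoc, mul_comm x, ← mul_assoc, mul_inv_cancel, one_mul] at this
    have hcases : ((i : ℕ) = 1 ∧ (j : ℕ) = 0) ∨ ((i : ℕ) = 2 ∧ (j : ℕ) = 0) ∨
        ((i : ℕ) = 0 ∧ (j : ℕ) = 1) ∨ ((i : ℕ) = 2 ∧ (j : ℕ) = 1) ∨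
        ((i : ℕ) = 0 ∧ (j : ℕ) = 2) ∨ ((i : ℕ) = 1 ∧ (j : ℕ) = 2) := by omega
    rcases hcases with ⟨e, f⟩ | ⟨e, f⟩ | ⟨e, f⟩ | ⟨e, f⟩ | ⟨e, f⟩ | ⟨e, f⟩ <;>
      rw [e, f] at he
    · simpa using he
    · exact h2 (by simpa using he)
    · exact (Subgroup.inv_mem_iff _).1 (by simpa using he)
    · rw [pow_one, sq, inv_mul_cancel_left] at he; exact he
    · exact h2 ((Subgroup.inv_mem_iff _).1 (by simpa using he))
    · refine (Subgroup.inv_mem_iff _).1 ?_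
      rw [pow_one, sq, mul_inv_rev, mul_assoc, inv_mul_cancel, mul_one] at he
      exact he

end CfsgLib.Chev.E6Three
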