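import Cfsg.Agent.Lib.Known.E6GraphIso
import Cfsg.Agent.Lib.Known.TwAutE6
import Cfsg.Agent.Lib.Known.E6Three.Chamber

/-!
# The subgroup of type F₄ over the prime field inside ²E₆(2)

The matrices over the prime field fixed by the graph automorphism, moved to the field with four
elements.
-/

set_option autoImplicit false
set_option maxRecDepth 20000
set_option Elab.async false

namespace CfsgLib.Chev.E6Three

open Cfsg.Lie TwE6 CfsgLib.Chev.FixedPoints

universe v

variable {K : Type v} [Field K] [Fintype K] [CharP K 2]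

/-- The prime field inside `K`. -/
noncomputable abbrev phi : ZMod 2 →+* K := ZMod.castHom dvd_rfl K

/-- Matrices over the prime field as matrices over `K`. -/
noncomputable abbrev iota : GL chevE6.Idx (ZMod 2) →* GL chevE6.Idx K :=
  Units.map (phi (K := K)).mapMatrix.toMonoidHom

/-- The subgroup of type F₄ over the prime field. -/
noncomputable def sub : Subgroup (GL chevE6.Idx K) :=
  (E6Fix.G (K := ZMod 2)).map iota

omit [Fintype K] in
theorem iota_xU {r : ℕ} (hr : r < chevE6.nroots) (t : ZMod 2) :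
    iota (K := K) (xU chevE6 r t) = xU chevE6 r (phi t) := by
  refine Units.ext ?_
  show ((xU chevE6 r t : GL chevE6.Idx (ZMod 2)) : Matrix chevE6.Idx chevE6.Idx (ZMod 2)).map phi = _
  rw [DataE6.facts.xU_val' hr, DataE6.facts.xU_val' hr, xR_map]

omit [Fintype K] in
theorem iota_injective : Function.Injective (iota (K := K)) := fun a b e => by
  refine Units.ext (Matrix.map_injective (phi (K := K)).injective ?_)
  exact congrArg Units.val e

omit [Fintype K] [CharP K 2] in
theorem exists_sigma_id : ∃ σ : ↥(chevE6.group (ZMod 2)) →* GL chevE6.Idx (ZMod 2),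
    parE6.IsTw chevE6 (RingHom.id (ZMod 2)) σ := by
  obtain ⟨-, hC⟩ := good_E6.{0}
  have hN : HasNbr chevE6 := hasNbr_of_mem (by simp)
  have hs : ∀ r < chevE6.nroots,
      Function.Surjective (parE6.coef (RingHom.id (ZMod 2)) r) := fun r hr x =>
    ⟨(parE6.eps r : ZMod 2) * x, by
      simp only [TwPar.coef, show parE6.lam r = 1 from rfl, pow_one, RingHom.id_apply, ← mul_assoc]
      rcases parE6_ok.eps_pm r hr with h | h <;> simp [h]⟩
  exact DataE6.facts.exists_sigma hC hN parE6_ok (RingHom.id _) Nat.cast_zero hs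

omit [Fintype K] in
theorem sub_equiv :
    Nonempty (↥(sub (K := K)) ≃* ↥(chevF4.group (ZMod 2))) := by
  obtain ⟨σ, hσ⟩ := exists_sigma_id
  obtain ⟨e⟩ := E6Graph.nonempty_equiv hσ
  exact ⟨((E6Fix.G (K := ZMod 2)).equivMapOfInjective iota iota_injective).symm.trans e⟩

omit [Fintype K] in
theorem one_mem_sub {r : ℕ} (hr : r ∈ [e6p2, e6m2, e6p4, e6m4]) :
    xU chevE6 r (1 : K) ∈ sub (K := K) := by
  obtain ⟨σ, hσ⟩ := exists_sigma_id
  exact ⟨_, E6Fix.one_mem hσ hr 1, by rw [iota_xU (single_tables r hr).1, map_one]⟩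

omit [Fintype K] in
theorem two_mem_sub {rs : ℕ × ℕ}
    (h : rs ∈ [(e6p1, e6p6), (e6m1, e6m6), (e6p3, e6p5), (e6m3, e6m5)]) :
    xU chevE6 rs.1 (1 : K) * xU chevE6 rs.2 (1 : K) ∈ sub (K := K) := by
  obtain ⟨σ, hσ⟩ := exists_sigma_id
  exact ⟨_, E6Fix.two_mem hσ h 1, by
    rw [map_mul, iota_xU (pair_tables rs h).1, iota_xU (pair_tables rs h).2.1, map_one]⟩

variable (C : Ctx K 2)
include C

theorem sub_le : sub (K := K) ≤ twistedE6 K 2 := by
  obtain ⟨σ, hσ⟩ := exists_sigma_id
  rw [sub, E6Fix.gen_eq hσ, MonoidHom.map_closure, Subgroup.closure_le]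
  rintro _ ⟨_, ⟨w, hw, rfl⟩, rfl⟩
  have hlt := (E6Fix.gen_fixed hσ w hw).2
  have e : iota (K := K) (wU chevE6 w) = wU chevE6 (w.map fun p => (p.1, phi p.2)) := by
    simp only [wU, map_list_prod, List.map_map]
    exact congrArg List.prod (List.map_congr_left fun p hp => iota_xU (hlt p hp) p.2)
  rw [SetLike.mem_coe, e]
  refine C.mem_gen ?_
  rcases hw with ⟨t, ht, r, hr, rfl⟩ | ⟨t, rs, hrs, rfl⟩
  · refine Or.inl ⟨phi t, ?_, r, hr, rfl⟩
    rw [← map_pow]
    rw [ZMod.card] at ht
    rw [ht]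
  · refine Or.inr ⟨phi t, rs, hrs, ?_⟩
    simp only [List.map_cons, List.map_nil, map_pow, ZMod.card]

/-- The entries of the elements lie in the fixed field. -/
theorem sub_rat {g : GL chevE6.Idx K} (hg : g ∈ sub (K := K)) (i j : chevE6.Idx) :
    C.f ((g : Matrix chevE6.Idx chevE6.Idx K) i j) =
      (g : Matrix chevE6.Idx chevE6.Idx K) i j := by
  obtain ⟨a, -, rfl⟩ := hg
  show C.f (phi ((a : Matrix chevE6.Idx chevE6.Idx (ZMod 2)) i j)) = phi _
  exact RingHom.congr_fun (RingHom.ext_zmod (C.f.comp phi) phi) _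

end CfsgLib.Chev.E6Three
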